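import Mathlib
import Cfsg.Agent.Lib.ClassSize.Counting
import Cfsg.Agent.Lib.ClassSize.Cover
import Cfsg.Agent.Lib.ClassSize.SquarefreeSizes
import Cfsg.Agent.S0143
import Cfsg.Agent.Lib.Factorized.KegelWielandt

/-!
A finite group with two subgroups of coprime index whose elements of order prime to one given prime
have class sizes supported away from the primes of the subgroup is solvable.
-/

set_option autoImplicit false
set_option linter.style.haveILetI false

namespace Cfsg.Agent.Lib.ClassSize.CoprimeSides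

open Subgroup

/-- All prime divisors of `n` lie in `S`. -/
def Num (S : Set ℕ) (n : ℕ) : Prop := ∀ r : ℕ, r.Prime → r ∣ n → r ∈ S

theorem Num.of_dvd {S : Set ℕ} {a b : ℕ} (h : Num S b) (hab : a ∣ b) : Num S a :=
  fun r hr hra => h r hr (hra.trans hab)

theorem Num.coprime {S : Set ℕ} {a b : ℕ} (ha : Num S a) (hb : Num Sᶜ b) : a.Coprime b :=
  Nat.coprime_of_dvd fun r hr h1 h2 => hb r hr h2 (ha r hr h1)

theorem Num.eq_one {S : Set ℕ} {a : ℕ} (ha : Num S a) (hb : Num Sᶜ a) : a = 1 :=
  (Nat.coprime_self a).1 (ha.coprime hb)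

/-- A subgroup of `Sᶜ`-index centralised, up to `Sᶜ`-parts, by its elements of order prime to a prime of `S`. -/
def Side (S : Set ℕ) (X : Type*) [Group X] : Prop :=
  ∃ (s : ℕ) (D : Subgroup X), s.Prime ∧ s ∈ S ∧ Num Sᶜ D.index ∧ ∀ y ∈ D, ¬ s ∣ orderOf y →
    Num Sᶜ (centralizer ({y} : Set X)).index ∧ Num Sᶜ ((centralizer ({y} : Set X)).relIndex D)

variable {X : Type*} [Group X] [Finite X] {S : Set ℕ}

theorem centralizer_subgroupOf (N : Subgroup X) (y : N) :
    centralizer ({y} : Set N) = (centralizer ({(y : X)} : Set X)).subgroupOf N := by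
  ext z
  simp only [mem_subgroupOf, ClassSize.mem_centralizer_singleton]
  exact Subtype.ext_iff

theorem Side.normal (h : Side S X) (N : Subgroup X) [N.Normal] : Side S N := by
  obtain ⟨s, D, hs, hsS, hD, hy⟩ := h
  refine ⟨s, D.subgroupOf N, hs, hsS, hD.of_dvd (relIndex_dvd_index_of_normal D N), fun y hyD hso => ?_⟩
  obtain ⟨h1, h2⟩ := hy (y : X) hyD (by rwa [Subgroup.orderOf_coe])
  rw [centralizer_subgroupOf]
  refine ⟨h1.of_dvd (relIndex_dvd_index_of_normal _ N), h2.of_dvd ?_⟩
  rw [← inf_subgroupOf_right D N, relIndex_subgroupOf inf_le_right, inf_comm,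
    ← relIndex_subgroupOf (L := D) inf_le_right, inf_subgroupOf_right]
  exact relIndex_dvd_index_of_normal _ _

theorem Side.quotient (h : Side S X) (N : Subgroup X) [N.Normal] : Side S (X ⧸ N) := by
  obtain ⟨s, D, hs, hsS, hD, hy⟩ := h
  haveI := Fact.mk hs
  have hf := QuotientGroup.mk'_surjective N
  refine ⟨s, D.map (QuotientGroup.mk' N), hs, hsS, hD.of_dvd (index_map_dvd D hf), ?_⟩
  rintro _ ⟨d, hd, rfl⟩ hso
  obtain ⟨u, y, rfl, hc, ⟨k, hu⟩, hy', huz, hyz⟩ := ClassSize.exists_pParts (p := s) d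
  have hyD : y ∈ D := zpowers_le.2 hd hyz
  have hu1 : QuotientGroup.mk' N u = 1 := by
    have e : QuotientGroup.mk' N u = QuotientGroup.mk' N (u * y) * (QuotientGroup.mk' N y)⁻¹ := by
      rw [map_mul, mul_inv_cancel_right]
    have hcm : Commute (QuotientGroup.mk' N (u * y)) (QuotientGroup.mk' N y)⁻¹ :=
      ((hc.mul_left (Commute.refl y)).map (QuotientGroup.mk' N)).inv_right
    have h1 : (orderOf (QuotientGroup.mk' N u)).Coprime s := by
      rw [e]
      refine Nat.Coprime.coprime_dvd_left (hcm.orderOf_mul_dvd_mul_orderOf) ?_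
      rw [orderOf_inv]
      exact Nat.Coprime.mul_left ((hs.coprime_iff_not_dvd.2 hso).symm)
        (hy'.coprime_dvd_left (orderOf_map_dvd _ y))
    refine orderOf_eq_one_iff.1 (Nat.eq_one_of_dvd_coprimes (h1.pow_right k) dvd_rfl
      (hu ▸ orderOf_map_dvd _ u))
  obtain ⟨h1, h2⟩ := hy y hyD (hs.coprime_iff_not_dvd.1 hy'.symm)
  have hle : centralizer ({y} : Set X) ≤
      (centralizer ({QuotientGroup.mk' N (u * y)} : Set (X ⧸ N))).comap (QuotientGroup.mk' N) := by
    intro z hz
    rw [mem_comap, ClassSize.mem_centralizer_singleton, map_mul, hu1, one_mul, ← map_mul, ← map_mul,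
      ClassSize.mem_centralizer_singleton.1 hz]
  constructor
  · rw [← index_comap_of_surjective _ hf]
    exact h1.of_dvd (index_dvd_of_le hle)
  · rw [← relIndex_comap]
    exact h2.of_dvd (relIndex_dvd_of_le_left D hle)

/-- Commuting elements with coprime class sizes centralise each other's normal closures. -/
theorem eq_one_of_commute [IsSimpleGroup X] (hZ : center X = ⊥) {x w : X} (hx : x ≠ 1)
    (hc : x * w = w * x)
    (h : (centralizer ({x} : Set X)).index.Coprime (centralizer ({w} : Set X)).index) : w = 1 := by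
  have key : ∀ g : X, g * x * g⁻¹ ∈ centralizer ({w} : Set X) := by
    intro g
    obtain ⟨b, hb, hbg⟩ := ClassSize.exists_mem_mul_of_index_coprime _ _ h g
    have e : g * x * g⁻¹ = b * x * b⁻¹ := by
      calc g * x * g⁻¹ = b * ((b⁻¹ * g) * x) * g⁻¹ := by group
        _ = b * (x * (b⁻¹ * g)) * g⁻¹ := by rw [ClassSize.mem_centralizer_singleton.1 hbg]
        _ = b * x * b⁻¹ := by group
    rw [e]
    exact mul_mem (mul_mem hb (ClassSize.mem_centralizer_singleton.2 hc)) (inv_mem hb)
  have htop : normalClosure ({x} : Set X) = ⊤ :=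
    (normalClosure_normal.eq_bot_or_eq_top).resolve_left fun e =>
      hx (mem_bot.1 (e ▸ subset_normalClosure (Set.mem_singleton x)))
  have hle : normalClosure ({x} : Set X) ≤ centralizer ({w} : Set X) := by
    rw [normalClosure, closure_le]
    intro y hy
    obtain ⟨z, hz, hzy⟩ := Group.mem_conjugatesOfSet_iff.1 hy
    rw [Set.mem_singleton_iff] at hz
    subst hz
    obtain ⟨g, rfl⟩ := isConj_iff.1 hzy
    exact key g
  rw [htop] at hle
  have : w ∈ center X := mem_center_iff.2 fun g => ClassSize.mem_centralizer_singleton.1 (hle (mem_top g))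
  rwa [hZ, mem_bot] at this

theorem index_centralizer_conj (g x : X) :
    (centralizer ({g * x * g⁻¹} : Set X)).index = (centralizer ({x} : Set X)).index := by
  rw [← index_map_equiv (centralizer ({x} : Set X)) (MulAut.conj g)]
  congr 1
  ext z
  simp only [mem_map, MulEquiv.coe_toMonoidHom, MulAut.conj_apply, ClassSize.mem_centralizer_singleton]
  constructor
  · intro h
    refine ⟨g⁻¹ * z * g, ?_, by simp [mul_assoc]⟩
    calc g⁻¹ * z * g * x = g⁻¹ * (z * (g * x * g⁻¹)) * g := by group
      _ = g⁻¹ * ((g * x * g⁻¹) * z) * g := by rw [h]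
      _ = x * (g⁻¹ * z * g) := by group
  · rintro ⟨u, hu, rfl⟩
    calc g * u * g⁻¹ * (g * x * g⁻¹) = g * (u * x) * g⁻¹ := by group
      _ = g * (x * u) * g⁻¹ := by rw [hu]
      _ = g * x * g⁻¹ * (g * u * g⁻¹) := by group

/-- In a simple group the subgroup of a side is a nilpotent `S`-group. -/
theorem isNilpotent_of_side [IsSimpleGroup X] (hZ : center X = ⊥) {s : ℕ} {D : Subgroup X}
    (hs : s.Prime) (hsS : s ∈ S)
    (hy : ∀ y ∈ D, ¬ s ∣ orderOf y →
      Num Sᶜ (centralizer ({y} : Set X)).index ∧ Num Sᶜ ((centralizer ({y} : Set X)).relIndex D))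
    (h' : Side Sᶜ X) : Group.IsNilpotent D := by
  have hDS : Num S (Nat.card D) := by
    intro m hm hmD
    by_contra hmS
    haveI := Fact.mk hm
    obtain ⟨⟨w, hwD⟩, hw⟩ := exists_prime_orderOf_dvd_card' m hmD
    rw [Subgroup.orderOf_mk] at hw
    have hw1 : w ≠ 1 := fun e => hm.ne_one (by rw [← hw, e, orderOf_one])
    have hsm : ¬ s ∣ m := fun hd => hmS ((Nat.prime_dvd_prime_iff_eq hs hm).1 hd ▸ hsS)
    have hwS := (hy w hwD (hw ▸ hsm)).1
    obtain ⟨r, J, hr, -, hJ, hx⟩ := h'
    rw [compl_compl] at hJ hx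
    by_cases hex : ∃ x ∈ J, x ≠ 1 ∧ ¬ r ∣ orderOf x
    · obtain ⟨x, hxJ, hx1, hxo⟩ := hex
      have hxS := (hx x hxJ hxo).1
      obtain ⟨Q, hQ⟩ := ClassSize.exists_sylow_le_centralizer (p := m) (x := x)
        fun hd => hmS (hxS m hm hd)
      have hwp : IsPGroup m (zpowers w) := IsPGroup.of_card (n := 1) (by rw [Nat.card_zpowers, hw, pow_one])
      obtain ⟨R, hR⟩ := hwp.exists_le_sylow
      obtain ⟨g, hg⟩ := MulAction.exists_smul_eq X R Q
      have hgQ : g * w * g⁻¹ ∈ (Q : Subgroup X) := by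
        rw [← hg, Sylow.coe_subgroup_smul, mem_pointwise_smul_iff_inv_smul_mem]
        simpa [MulAut.smul_def, mul_assoc] using hR (mem_zpowers w)
      have hc := ClassSize.mem_centralizer_singleton.1 (hQ hgQ)
      have := eq_one_of_commute hZ hx1 hc.symm
        (by rw [index_centralizer_conj]; exact hxS.coprime hwS)
      exact hw1 (by simpa [mul_assoc] using congrArg (fun t => g⁻¹ * t * g) this)
    · push Not at hex
      have hJr : ∀ k : ℕ, k.Prime → k ∣ Nat.card J → k = r := by
        intro k hk hkJ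
        haveI := Fact.mk hk
        obtain ⟨⟨j, hjJ⟩, hj⟩ := exists_prime_orderOf_dvd_card' k hkJ
        rw [Subgroup.orderOf_mk] at hj
        have hj1 : j ≠ 1 := fun e => hk.ne_one (by rw [← hj, e, orderOf_one])
        exact ((Nat.prime_dvd_prime_iff_eq hr hk).1 (hj ▸ hex j hjJ hj1)).symm
      have hpp : ∀ {k : ℕ}, k.Prime → k ∣ (centralizer ({w} : Set X)).index → k = r := by
        intro k hk hkw
        have : k ∣ Nat.card J * J.index := by
          rw [Subgroup.card_mul_index]; exact hkw.trans (index_dvd_card _)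
        rcases hk.dvd_mul.1 this with h1 | h1
        · exact hJr k hk h1
        · exact absurd (hJ k hk h1) (hwS k hk hkw)
      have hpr := Cfsg.Agent.S0143.result r _ hr w hw1
        (Nat.eq_prime_pow_of_unique_prime_dvd index_ne_zero_of_finite hpp)
      haveI := Fact.mk hpr
      haveI := isCyclic_of_prime_card (p := Nat.card X) rfl
      have : center X = ⊤ := by
        refine eq_top_iff.2 fun g _ => mem_center_iff.2 fun h => ?_
        obtain ⟨e, he⟩ := IsCyclic.exists_generator (α := X)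
        obtain ⟨i, rfl⟩ := mem_zpowers_iff.1 (he g)
        obtain ⟨j, rfl⟩ := mem_zpowers_iff.1 (he h)
        exact (Commute.zpow_zpow_self e j i).eq
      exact hw1 (mem_bot.1 (hZ ▸ this ▸ mem_top w))
  haveI := Fact.mk hs
  have hcentral : ∀ y ∈ D, ¬ s ∣ orderOf y → D ≤ centralizer ({y} : Set X) := fun y hyD hyo =>
    relIndex_eq_one.1 (Num.eq_one (hDS.of_dvd (relIndex_dvd_card _ _)) (hy y hyD hyo).2)
  have hq : IsPGroup s (D ⧸ center D) := by
    intro g
    obtain ⟨d, rfl⟩ := QuotientGroup.mk_surjective g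
    obtain ⟨u, y, hd, hc, ⟨k, hu⟩, hy', -, hyz⟩ := ClassSize.exists_pParts (p := s) d
    refine ⟨k, ?_⟩
    rw [← QuotientGroup.mk_pow, QuotientGroup.eq_one_iff, hd, hc.mul_pow, ← hu, pow_orderOf_eq_one, one_mul]
    refine pow_mem (mem_center_iff.2 fun z => Subtype.ext ?_) _
    exact ClassSize.mem_centralizer_singleton.1 (hcentral (y : X) y.2
      (by rw [Subgroup.orderOf_coe]; exact hs.coprime_iff_not_dvd.1 hy'.symm) z.2)
  exact Group.of_quotient_center_nilpotent hq.isNilpotent

universe u in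
theorem isSolvable_aux (n : ℕ) : ∀ (X : Type u) [Group X] [Finite X], Nat.card X = n →
    Side S X → Side Sᶜ X → Group.IsSolvable X := by
  induction n using Nat.strong_induction_on with
  | _ n ih =>
    intro X _ _ hn h1 h2
    by_cases hN : ∃ N : Subgroup X, N.Normal ∧ N ≠ ⊥ ∧ N ≠ ⊤
    · obtain ⟨N, hNn, hb, ht⟩ := hN
      haveI := hNn
      have hmul := Subgroup.card_mul_index N
      have hbig : 1 < Nat.card N := N.one_lt_card_iff_ne_bot.2 hb
      have hidx : 1 < N.index := Nat.one_lt_iff_ne_zero_and_ne_one.2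
        ⟨index_ne_zero_of_finite, fun e => ht (index_eq_one.1 e)⟩
      have hi1 : Nat.card N < n := by rw [← hn, ← hmul]; exact lt_mul_of_one_lt_right (by omega) hidx
      have hi2 : Nat.card (X ⧸ N) < n := by
        rw [← hn, ← hmul, ← index_eq_card]; exact lt_mul_of_one_lt_left (by omega) hbig
      haveI : Group.IsSolvable N := ih _ hi1 N rfl (h1.normal N) (h2.normal N)
      haveI : Group.IsSolvable (X ⧸ N) := ih _ hi2 (X ⧸ N) rfl (h1.quotient N) (h2.quotient N)
      exact Group.isSolvable_of_ker_le_range N.subtype (QuotientGroup.mk' N) (by simp)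
    push Not at hN
    rcases subsingleton_or_nontrivial X with h0 | h0
    · infer_instance
    haveI : IsSimpleGroup X := ⟨fun H hH => or_iff_not_imp_left.2 (hN H hH)⟩
    rcases (inferInstance : (center X).Normal).eq_bot_or_eq_top with hZ | hZ
    · obtain ⟨s, D, hs, hsS, hD, hy⟩ := id h1
      obtain ⟨r, J, hr, hrS, hJ, hx⟩ := id h2
      have hDn := isNilpotent_of_side hZ hs hsS hy h2
      have hJn := isNilpotent_of_side hZ hr hrS hx (by rwa [compl_compl])
      refine Lib.Factorized.kegel_wielandt hDn hJn fun g => ?_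
      rw [compl_compl] at hJ
      obtain ⟨b, hb, hbg⟩ := ClassSize.exists_mem_mul_of_index_coprime J D (hJ.coprime hD) g
      exact ⟨b, hb, b⁻¹ * g, hbg, by group⟩
    · exact Group.isSolvable_of_comm fun a b => mem_center_iff.1 (hZ ▸ mem_top b) a

/-- A finite group with sides for a set of primes and for its complement is solvable. -/
theorem isSolvable_of_sides {X : Type*} [Group X] [Finite X] {S : Set ℕ} (h1 : Side S X) (h2 : Side Sᶜ X) :
    Group.IsSolvable X :=
  isSolvable_aux (Nat.card X) X rfl h1 h2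

end Cfsg.Agent.Lib.ClassSize.CoprimeSides
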